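import Groth.Prelude.Def_W4stkchowintpicEnv
import Groth.Agent.CycLib28.P1Graph
import Groth.Agent.CycLib28.PushAny
import Groth.Agent.CycLib28.PushZero
import Groth.Agent.CycLib28.PB.Indep

/-!
# The exact sequence of Chow groups of an envelope
-/

set_option autoImplicit false
set_option linter.unusedSectionVars false
set_option linter.style.haveILetI false
set_option backward.isDefEq.respectTransparency.types false

universe u

open AlgebraicGeometry CategoryTheory CategoryTheory.Limits
open Groth.Agent.CycLim28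

namespace Groth.Agent.CycLib28.Env

variable {X Y Z : Scheme.{u}}

theorem residueDegree_of_surjective (f : Y ⟶ X) (y : Y) (h : Function.Surjective (f.residueFieldMap y).hom) :
    f.residueDegree y = 1 := by
  letI := (f.residueFieldMap y).hom.toAlgebra
  let e : X.residueField (f y) ≃ₐ[X.residueField (f y)] Y.residueField y :=
    AlgEquiv.ofBijective (Algebra.ofId _ _) ⟨RingHom.injective _, h⟩
  change Module.finrank (X.residueField (f y)) (Y.residueField y) = 1
  rw [← e.toLinearEquiv.finrank_eq, Module.finrank_self]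

theorem residueDegree_congr {f g : Y ⟶ X} (h : f = g) (y : Y) : f.residueDegree y = g.residueDegree y := by
  subst h; rfl

/-- The point of `Y ×_X Y` over a pair with a rational second member. -/
theorem exists_pair (f : Y ⟶ X) (y y' : Y) (hxy : f y = f y') (h : Function.Surjective (f.residueFieldMap y').hom) :
    ∃ z : ↑(pullback f f), pullback.fst f f z = y ∧ pullback.snd f f z = y' ∧
      Function.Surjective ((pullback.fst f f).residueFieldMap z).hom := by
  have hbij : Function.Bijective (f.residueFieldMap y').hom := ⟨RingHom.injective _, h⟩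
  haveI : IsIso (f.residueFieldMap y') := (ConcreteCategory.isIso_iff_bijective _).2 hbij
  let φ : Y.residueField y' ⟶ Y.residueField y :=
    inv (f.residueFieldMap y') ≫ (X.residueFieldCongr hxy.symm).hom ≫ f.residueFieldMap y
  have hw : Y.fromSpecResidueField y ≫ f = (Spec.map φ ≫ Y.fromSpecResidueField y') ≫ f := by
    rw [Category.assoc, ← Scheme.Hom.SpecMap_residueFieldMap_fromSpecResidueField f y',
      ← Scheme.Hom.SpecMap_residueFieldMap_fromSpecResidueField f y, ← Spec.map_comp_assoc]
    rw [show f.residueFieldMap y' ≫ φ = (X.residueFieldCongr hxy.symm).hom ≫ f.residueFieldMap y from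
      IsIso.hom_inv_id_assoc _ _, Spec.map_comp_assoc]
    rw [Scheme.residueFieldCongr_fromSpecResidueField]
  let r := pullback.lift (Y.fromSpecResidueField y) (Spec.map φ ≫ Y.fromSpecResidueField y') hw
  let pt : ↥(Spec (Y.residueField y)) := IsLocalRing.closedPoint (Y.residueField y)
  refine ⟨r pt, ?_, ?_, ?_⟩
  · rw [← Scheme.Hom.comp_apply, pullback.lift_fst]
    exact Scheme.fromSpecResidueField_apply _ _
  · rw [← Scheme.Hom.comp_apply, pullback.lift_snd, Scheme.Hom.comp_apply]
    exact Scheme.fromSpecResidueField_apply _ _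
  · suffices H : ∀ g : Spec (Y.residueField y) ⟶ Y, IsPreimmersion g → r ≫ pullback.fst f f = g →
        Function.Surjective ((pullback.fst f f).residueFieldMap (r pt)).hom from
      H _ inferInstance (pullback.lift_fst _ _ _)
    rintro _ hpre rfl
    haveI := hpre
    have hb := (ConcreteCategory.isIso_iff_bijective _).1
      (DimLib.isIso_residueFieldMap_of_isPreimmersion (r ≫ pullback.fst f f) pt)
    rw [Scheme.residueFieldMap_comp] at hb
    intro a
    obtain ⟨c, hc⟩ := hb.2 ((r.residueFieldMap pt) a)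
    exact ⟨c, (r.residueFieldMap pt).hom.injective ((CommRingCat.comp_apply _ _ c).symm.trans hc)⟩

theorem delta_eq_of_surjective {δY : Y → ℤ} {δ : X → ℤ} (f : Y ⟶ X) (hδ : Cyc.DeltaCompat f δY δ) (y : Y)
    (h : Function.Surjective (f.residueFieldMap y).hom) : δY y = δ (f y) :=
  delta_eq_of_bijective f hδ y ⟨RingHom.injective _, h⟩

variable (f : Y ⟶ X) [IsProper f] (hcd : Cyc.IsCompletelyDecomposed f) {δ : X → ℤ} {δY : Y → ℤ}
  (hδ : Cyc.DeltaCompat f δY δ)

include hcd hδ

/-- A cycle with zero image comes from the fibre product. -/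
theorem exists_of_map_eq_zero {δ2 : ↥(pullback f f) → ℤ} (hδ2 : Cyc.DeltaCompat (pullback.fst f f) δ2 δY) (k : ℤ)
    (β : AlgebraicCycle Y ℤ) (hβ : β ∈ Cyc.Zk Y δY k) (h0 : AlgebraicCycle.map f δY δ β = 0) :
    ∃ γ : AlgebraicCycle (pullback f f) ℤ, γ ∈ Cyc.Zk (pullback f f) δ2 k ∧
      AlgebraicCycle.map (pullback.fst f f) δ2 δY γ - AlgebraicCycle.map (pullback.snd f f) δ2 δY γ = β := by
  classical
  choose s hs hsb using hcd
  choose z hz1 hz2 hz3 using fun y => exists_pair f y (s (f y)) (hs (f y)).symm (hsb (f y))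
  let γ₀ : ↑(pullback f f) → ℤ := fun w => if w = z (pullback.fst f f w) then β (pullback.fst f f w) else 0
  let γ : AlgebraicCycle (pullback f f) ℤ :=
    { toFun := γ₀
      supportWithinDomain' := by simp
      supportLocallyFiniteWithinDomain' := fun w _ => by
        obtain ⟨V, hV, hfin⟩ := β.supportLocallyFiniteWithinDomain' (pullback.fst f f w) trivial
        refine ⟨pullback.fst f f ⁻¹' V, (pullback.fst f f).continuous.continuousAt.preimage_mem_nhds hV,
          (hfin.image z).subset fun a ⟨ha, hne⟩ => ?_⟩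
        simp only [γ₀, Function.mem_support, ne_eq, ite_eq_right_iff, not_forall] at hne
        exact ⟨pullback.fst f f a, ⟨ha, hne.2⟩, hne.1.symm⟩ }
  have hdz : ∀ y, δ2 (z y) = δY y := fun y => by
    rw [delta_eq_of_surjective (pullback.fst f f) hδ2 (z y) (hz3 y), hz1]
  have hds : ∀ x, δY (s x) = δ x := fun x => by
    rw [delta_eq_of_surjective f hδ (s x) (hsb x), hs]
  have hγz : ∀ y, γ (z y) = β y := fun y => by
    show γ₀ (z y) = _
    simp only [γ₀]
    rw [hz1, if_pos rfl]
  have hγ0 : ∀ w, γ w ≠ 0 → w = z (pullback.fst f f w) := fun w hw => by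
    by_contra h
    exact hw (if_neg h)
  have hcoef1 : ∀ y, AlgebraicCycle.mapCoeff (pullback.fst f f) δ2 δY (z y) = 1 := fun y => by
    rw [AlgebraicCycle.mapCoeff, if_pos (by rw [hdz, hz1]), residueDegree_of_surjective _ _ (hz3 y)]
  have hcoef2 : ∀ y, AlgebraicCycle.mapCoeff (pullback.snd f f) δ2 δY (z y) =
      AlgebraicCycle.mapCoeff f δY δ y := fun y => by
    have hdeg : (pullback.snd f f).residueDegree (z y) = f.residueDegree y := by
      have h := residueDegree_congr (pullback.condition (f := f) (g := f)) (z y)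
      rw [residueDegree_comp, residueDegree_comp, residueDegree_of_surjective _ _ (hz3 y), mul_one] at h
      have e1 : f.residueDegree (pullback.snd f f (z y)) = 1 :=
        residueDegree_of_surjective _ _ (by rw [hz2]; exact hsb (f y))
      rw [e1, one_mul, hz1] at h
      exact h.symm
    simp only [AlgebraicCycle.mapCoeff]
    rw [hdz, hz2, hds, hdeg]
  refine ⟨γ, fun w hw => ?_, DFunLike.ext _ _ fun y => ?_⟩
  · show γ₀ w = 0
    simp only [γ₀]
    split_ifs with h
    · exact hβ _ fun e => hw (by rw [h, hdz, e])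
    · rfl
  · have h1 : AlgebraicCycle.map (pullback.fst f f) δ2 δY γ y = β y := by
      rw [map_apply_finset (pullback.fst f f) δ2 δY γ y {z y} (fun w hw => by rw [Finset.mem_singleton.1 hw, hz1])
        (fun w hw hne => Finset.mem_singleton.2 (by rw [hγ0 w hne, hw])), Finset.sum_singleton, hγz, hcoef1]
      simp
    have h2 : AlgebraicCycle.map (pullback.snd f f) δ2 δY γ y = 0 := by
      by_cases hy : y = s (f y)
      · have hzero := DFunLike.congr_fun h0 (f y)
        let S := (finite_fibre_inter_support f β (f y)).toFinset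
        have hS : ∀ a, a ∈ S ↔ f a = f y ∧ β a ≠ 0 := fun a => by simp [S]
        rw [map_apply_finset f δY δ β (f y) S (fun a ha => ((hS a).1 ha).1) (fun a h1 h2 => (hS a).2 ⟨h1, h2⟩)] at hzero
        rw [map_apply_finset (pullback.snd f f) δ2 δY γ y (S.image z) ?_ ?_, Finset.sum_image ?_]
        · refine Eq.trans (Finset.sum_congr rfl fun a _ => by rw [hγz, hcoef2]) hzero
        · exact fun a _ b _ e => by simpa [hz1] using congrArg (pullback.fst f f) e
        · intro w hw
          obtain ⟨a, ha, rfl⟩ := Finset.mem_image.1 hw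
          rw [hz2, ((hS a).1 ha).1, ← hy]
        · intro w hw hne
          refine Finset.mem_image.2 ⟨pullback.fst f f w, (hS _).2 ⟨?_, ?_⟩, (hγ0 w hne).symm⟩
          · rw [← Scheme.Hom.comp_apply, pullback.condition, Scheme.Hom.comp_apply, hw]
          · rw [← hγz, ← hγ0 w hne]; exact hne
      · rw [map_apply_finset (pullback.snd f f) δ2 δY γ y ∅ (fun w hw => absurd hw (Finset.notMem_empty w))
          (fun w hw hne => absurd ?_ hy), Finset.sum_empty]
        have h := hz2 (pullback.fst f f w)
        rw [← hγ0 w hne, hw] at h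
        have hf' : f y = f (pullback.fst f f w) := by rw [h, hs]
        rw [hf']
        exact h
    show AlgebraicCycle.map (pullback.fst f f) δ2 δY γ y - AlgebraicCycle.map (pullback.snd f f) δ2 δY γ y = β y
    rw [h1, h2, sub_zero]

/-- Rationally trivial cycles lift to rationally trivial cycles. -/
theorem exists_lift_ratEquivZero [IsLocallyNoetherian X] [IsLocallyNoetherian Y] (hX : Cyc.IsDimFun X δ)
    (hY : Cyc.IsDimFun Y δY) (k : ℤ) (α : AlgebraicCycle X ℤ) (h : Cyc.RatEquivZero δ k α) :
    ∃ β : AlgebraicCycle Y ℤ, Cyc.RatEquivZero δY k β ∧ AlgebraicCycle.map f δY δ β = α := by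
  classical
  obtain ⟨ι, ξ, g, hξ, hg, hloc, hsum⟩ := h
  choose s hs hsb using hcd
  let η : ι → Y := fun a => s (ξ a)
  let g' : ∀ a, Y.residueField (η a) := fun a => f.residueFieldMap (η a) ((X.residueFieldCongr (hs (ξ a))).inv (g a))
  have hg' : ∀ a, g' a ≠ 0 := fun a => (map_ne_zero _).mpr ((map_ne_zero _).mpr (hg a))
  have hη : ∀ a, δY (η a) = k + 1 := fun a => by
    rw [delta_eq_of_surjective f hδ (η a) (hsb (ξ a)), hs, hξ]
  have hloc' : ∀ y : Y, ∃ U : Set Y, IsOpen U ∧ y ∈ U ∧ {a | (closure {η a} ∩ U).Nonempty}.Finite := by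
    intro y
    obtain ⟨U, hU, hyU, hfin⟩ := hloc (f y)
    refine ⟨f ⁻¹' U, hU.preimage f.continuous, hyU, hfin.subset fun a ⟨w, hw, hwU⟩ => ⟨f w, ?_, hwU⟩⟩
    rw [← specializes_iff_mem_closure, ← hs (ξ a)]
    exact (specializes_iff_mem_closure.2 hw).map f.continuous
  obtain ⟨β, hβ⟩ := exists_cycle_sum hY η g' hg' hloc'
  refine ⟨β, ⟨ι, η, g', hη, hg', hloc', hβ⟩, DFunLike.ext _ _ fun x => ?_⟩
  choose D hD using fun a => exists_divCycle hY (η a) (g' a) (hg' a)
  have hmap : ∀ a, AlgebraicCycle.map f δY δ (D a) x = Cyc.divFun δ (ξ a) (g a) x := by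
    intro a
    have h := map_divFun_bijective hY hX f hδ (η a) ((X.residueFieldCongr (hs (ξ a))).inv (g a))
      ((map_ne_zero _).mpr (hg a)) ⟨RingHom.injective _, hsb (ξ a)⟩ (D a) (hD a) x
    rw [h]
    suffices H : ∀ (x' : X) (e : x' = ξ a), Cyc.divFun δ x' ((X.residueFieldCongr e).inv (g a)) x =
        Cyc.divFun δ (ξ a) (g a) x from H _ (hs (ξ a))
    rintro _ rfl
    simp
  let T := (finite_near η hloc' (f.isCompact_preimage_singleton x)).toFinset
  have hT : ∀ a y, f y = x → D a y ≠ 0 → a ∈ T := fun a y hy hne => by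
    rw [Set.Finite.mem_toFinset]
    refine ⟨y, ?_, hy⟩
    by_contra hcl
    exact hne (by rw [hD]; exact divFun_eq_zero_of_not_specializes _ fun h' => hcl (specializes_iff_mem_closure.mp h'))
  let S : Finset Y := T.biUnion (fun a => (finite_fibre_inter_support f (D a) x).toFinset) ∪
    (finite_fibre_inter_support f β x).toFinset
  have hS : ∀ y ∈ S, f y = x := by
    intro y hy
    simp only [S, Finset.mem_union, Finset.mem_biUnion, Set.Finite.mem_toFinset] at hy
    rcases hy with ⟨a, -, hy⟩ | hy <;> exact hy.1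
  rw [map_apply_finset f δY δ β x S hS fun y h1 h2 => by
      simp only [S, Finset.mem_union, Set.Finite.mem_toFinset]; exact Or.inr ⟨h1, h2⟩,
    Finset.sum_congr rfl fun y hy => by
      rw [hβ, finsum_eq_sum_of_support_subset _ (s := T) (fun a ha => hT a y (hS y hy) (by rw [hD]; exact ha)),
        Finset.sum_mul],
    Finset.sum_comm, hsum, finsum_eq_sum_of_support_subset _ (s := T) fun a ha => ?_]
  · refine Finset.sum_congr rfl fun a ha => ?_
    rw [← hmap a, map_apply_finset f δY δ (D a) x S hS fun y h1 h2 => by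
      simp only [S, Finset.mem_union, Finset.mem_biUnion, Set.Finite.mem_toFinset]; exact Or.inl ⟨a, ha, h1, h2⟩]
    simp only [hD]
  · have hne : AlgebraicCycle.map f δY δ (D a) x ≠ 0 := by rw [hmap]; exact ha
    by_contra hTa
    refine hne ?_
    rw [map_apply_finset f δY δ (D a) x ∅ (fun y hy => absurd hy (Finset.notMem_empty y))
      (fun y h1 h2 => absurd (hT a y h1 h2) hTa), Finset.sum_empty]

end Groth.Agent.CycLib28.Env
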